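import Cfsg.Agent.Lib.Odd.BG1b

/-! Bender-Glauberman, section 1: see `BG1a`, `BG1b`. -/
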