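import Cfsg.Agent.Lib.Odd.BG14d

/-! Bender and Glauberman, section 14 (aggregate of `BG14a`–`BG14d`). -/
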