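import Cfsg.Agent.Lib.Odd.PF1d

/-! Character theory in the ambient layer and Peterfalvi section 1 (files `PF1a`--`PF1d`). -/
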