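import Cfsg.Agent.Lib.Odd.PF3c

/-! Cyclic TI subgroups, Peterfalvi section 3 (files `PF3a`--`PF3c`). -/
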