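import Cfsg.Agent.Lib.Odd.PF2b

/-! TI-sets and the Dade isometry, Peterfalvi section 2 (files `PFDade`, `PF2a`, `PF2b`). -/
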