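import Cfsg.Agent.Lib.Odd.PF4b

/-! Prime TI action, Peterfalvi section 4 (files `PF4a`, `PF4b`). -/
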